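/-
Realizes once the on-demand lemmas (equation and congruence lemmas) of the Prelude definitions, so
that no two files hold a copy.  Import this file in every root library file and in every statement file
that unfolds Prelude definitions.  FROZEN.
-/
import Cfsg.Agent.Eq.E11
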