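import Cfsg.Agent.PF.I14

/-!
# The Feit-Thompson theorem
-/

set_option autoImplicit false

open Cfsg CA.FG

namespace CA.FT

universe u

theorem not_minSimple {G : Type u} [Group G] (hG : IsMinSimpleOddOrder G) : False :=
  haveI : MinSimpleOdd G := ⟨hG⟩
  CA.PF.no_minSimple_odd_group G

/-- groups of odd order are solvable -/
theorem odd_solvable (G : Type u) [Group G] (h : Odd (Nat.card G)) : Group.IsSolvable G := by
  generalize hn : Nat.card G = n
  induction n using Nat.strong_induction_on generalizing G with
  | _ n ih =>
  subst hn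
  have : Finite G := Nat.finite_of_card_ne_zero (by rintro e; simp [e] at h)
  have sub : ∀ H : Subgroup G, H ≠ ⊤ → Group.IsSolvable H := fun H hH =>
    ih _ ((card_lt_of_lt (lt_top_iff_ne_top.mpr hH)).trans_eq Subgroup.card_top) H
      (h.of_dvd_nat H.card_subgroup_dvd_card) rfl
  by_contra ns
  have : Nontrivial G := by
    by_contra n
    rw [not_nontrivial_iff_subsingleton] at n
    exact ns inferInstance
  refine not_minSimple ⟨h, ⟨fun N hN => by_contra fun n => ns ?_⟩, fun c => ns (Group.isSolvable_of_comm c.is_comm.comm), sub⟩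
  rw [not_or] at n
  have := sub N n.2
  have := ih _ (Nat.lt_of_lt_of_eq (lt_mul_of_one_lt_left (index_pos N) (one_lt_card n.1)) N.card_mul_index)
    (G ⧸ N) (h.of_dvd_nat N.index_dvd_card) rfl
  exact solvable_of_ker_le_range N.subtype (QuotientGroup.mk' N) (by simp)

theorem odd_sol {G : Type u} [Group G] {H : Subgroup G} (h : Odd (Nat.card H)) : Group.IsSolvable H :=
  odd_solvable H h

/-- of two groups of coprime orders one is solvable -/
theorem sol_or_sol_of_coprime {A : Type*} {B : Type*} [Group A] [Group B]
    (h : (Nat.card A).Coprime (Nat.card B)) : Group.IsSolvable A ∨ Group.IsSolvable B := by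
  rcases Nat.even_or_odd (Nat.card A) with a | a
  · refine Or.inr (odd_solvable B (Nat.not_even_iff_odd.mp fun b => ?_))
    exact absurd (Nat.eq_one_of_dvd_coprimes h a.two_dvd b.two_dvd) (by norm_num)
  · exact Or.inl (odd_solvable A a)

end CA.FT
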