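import Cfsg.Statements.S0522
import Cfsg.Agent.BG.P07a
import Cfsg.Agent.FT
-- import your own Cfsg.Agent.* helpers here

set_option autoImplicit false
open Cfsg

namespace Cfsg.Agent.S0522

/-- Transitivity Theorem (odd-order setting). Let X be a finite group of odd order in which the normalizer of every
nontrivial p-subgroup is solvable, P a Sylow p-subgroup, and B an abelian subgroup of P, normalized by P, with
C_P(B) = B and containing an elementary abelian subgroup of order p^3. Then for every prime q ≠ p, any two q-subgroups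
that are maximal among the q-subgroups normalized by B are conjugate by an element of the centralizer of B. -/
theorem result {X : Type*} [Group X] [Finite X] (hX : Odd (Nat.card X)) (p : ℕ)
    [Fact p.Prime] (hloc : ∀ T : Subgroup X, IsPGroup p T → T ≠ ⊥ → Group.IsSolvable (Subgroup.normalizer (T : Set X)))
    (P : Sylow p X) (B : Subgroup X) (hBP : B ≤ (P : Subgroup X))
    (hBn : ∀ x ∈ (P : Subgroup X), ∀ b ∈ B, x * b * x⁻¹ ∈ B) (hBa : IsMulCommutative B)
    (hBc : (P : Subgroup X) ⊓ Subgroup.centralizer (B : Set X) = B)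
    (hB3 : ∃ E : Subgroup X, E ≤ B ∧ (∀ e ∈ E, e ^ p = 1) ∧ p ^ 3 ≤ Nat.card E)
    (q : ℕ) [Fact q.Prime] (hqp : q ≠ p) (Q₁ Q₂ : Subgroup X)
    (h₁ : IsPGroup q Q₁ ∧ B ≤ Subgroup.normalizer (Q₁ : Set X) ∧
      ∀ R : Subgroup X, IsPGroup q R → B ≤ Subgroup.normalizer (R : Set X) → Q₁ ≤ R → R = Q₁)
    (h₂ : IsPGroup q Q₂ ∧ B ≤ Subgroup.normalizer (Q₂ : Set X) ∧
      ∀ R : Subgroup X, IsPGroup q R → B ≤ Subgroup.normalizer (R : Set X) → Q₂ ≤ R → R = Q₂) :
    ∃ c ∈ Subgroup.centralizer (B : Set X), Q₂ = Q₁.map (MulAut.conj c).toMonoidHom := by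
  have hp : p.Prime := Fact.out
  have hq : q.Prime := Fact.out
  have sol := CA.FG.sol_top_iff.2 (CA.FT.odd_solvable X hX)
  have pB : CA.FG.IsPGrp p B := (CA.FG.sylow_top hp P).pGrp.of_le hBP
  have nK : B ≤ Subgroup.normalizer (CA.FG.pPrimeCoreOf p (⊤ : Subgroup X) : Set X) :=
    le_top.trans (CA.FG.pcore_norm _ _)
  have co := (CA.FG.IsPiGrp.coprime pB (CA.FG.pcore_piGrp {p}ᶜ ⊤)).symm
  have key : ∀ Q : Subgroup X, (IsPGroup q Q ∧ B ≤ Subgroup.normalizer (Q : Set X) ∧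
      ∀ R : Subgroup X, IsPGroup q R → B ≤ Subgroup.normalizer (R : Set X) → Q ≤ R → R = Q) →
      CA.FG.IsSylowOf q Q (CA.FG.pPrimeCoreOf p ⊤) := fun Q h => by
    have qQ := CA.FG.pGrp_of_isPGroup hq h.1
    obtain ⟨R, h1, h2, h3⟩ := CA.FG.sol_coprime_Sylow_subset hq (Or.inr pB.sol) nK co
      (CA.BG.P07.SCN_norm_le_p'core hp (by rwa [Subgroup.card_top]) sol (CA.FG.sylow_top hp P)
        ⟨hBP, fun x hx => CA.FG.mem_norm_of_forall (hBn x hx), hBc⟩ le_top (qQ.piGrp hqp) h.2.1) qQ h.2.1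
    exact h.2.2 R (h1.pGrp.isPGroup hq) h2 h3 ▸ h1
  obtain ⟨c, hc, e⟩ := CA.FG.sol_coprime_Sylow_trans hq (Or.inr pB.sol) nK co (key Q₂ h₂) h₂.2.1
    (key Q₁ h₁) h₁.2.1
  exact ⟨c, hc.2, e⟩

end Cfsg.Agent.S0522
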