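import Cfsg.Statements.S5368
import Cfsg.Agent.Th.Cls
import Cfsg.Agent.Fi.IType24

set_option autoImplicit false
open scoped MatrixGroups
open Cfsg

namespace Cfsg.Agent.S5368

open CA.Th CA.QP

/-- Fischer's Theorem on 3-transposition groups. Let D be a conjugacy class of 3-transpositions generating the finite group G, and suppose the centre of G is trivial and the commutator subgroup of G is simple (possibly of prime order). Then one of the following holds: (1) G is isomorphic to a symmetric group with D going to the transpositions; (2) G is isomorphic to a symplectic group over the field with two elements with D going to the transvections (elements g with g − 1 of rank one); (3) G is isomorphic to a projective special unitary group over the field with four elements with D going to the images of the unitary transvections; (4) G is isomorphic to the full isometry group of a hyperbolic or elliptic quadratic form over the field with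 two elements with D going to the orthogonal transvections; (5) G is isomorphic to the subgroup of the isometry group of a non-degenerate quadratic form over the field with three elements generated by the reflections in vectors of a fixed non-zero norm, taken modulo its centre, with D going to the images of those reflections; (6) G with D is of type M(22), M(23) or M(24). -/
theorem result {G : Type*} [Group G] [Finite G] {D : Set G} (hD : Cfsg.IsThreeTranspositionClass D) (hZ : Subgroup.center G = ⊥) (hsimple : IsSimpleGroup (commutator G)) : (∃ n : ℕ, ∃ e : G ≃* Equiv.Perm (Fin n), e '' D = {σ : Equiv.Perm (Fin n) | σ.IsSwap}) ∨ (∃ m : ℕ, ∃ e : G ≃* Matrix.symplecticGroup (Fin m) (ZMod 2), e '' D = {g : Matrix.symplecticGroup (Fin m) (ZMod 2) | ((g : Matrix (Fin m ⊕ Fin m) (Fin m ⊕ Fin m) (ZMod 2)) - 1).rank = 1}) ∨ (∃ (n : ℕ) (F : Type) (_ : Field F) (_ : Fintype F), Fintype.card F = 4 ∧ ∃ e : G ≃* Cfsg.PSU n F 2, e '' D = (QuotientGroup.mk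 : ↥(Cfsg.SU n F 2) → Cfsg.PSU n F 2) '' {g : ↥(Cfsg.SU n F 2) | (((g : Matrix.SpecialLinearGroup (Fin n) F) : Matrix (Fin n) (Fin n) F) - 1).rank = 1}) ∨ ((∃ m : ℕ, ∃ e : G ≃* ↥(Cfsg.isometryGroup (ZMod 2) (Cfsg.quadFormPlus m (ZMod 2))), e '' D = {g : ↥(Cfsg.isometryGroup (ZMod 2) (Cfsg.quadFormPlus m (ZMod 2))) | (((g : GL (Fin m ⊕ Fin m) (ZMod 2)) : Matrix (Fin m ⊕ Fin m) (Fin m ⊕ Fin m) (ZMod 2)) - 1).rank = 1}) ∨ (∃ m : ℕ, ∃ e : G ≃* ↥(Cfsg.isometryGroup (ZMod 2) (Cfsg.quadFormMinus m (ZMod 2) 1 1)), e '' D = {g : ↥(Cfsg.isometryGroup (ZMod 2) (Cfsg.quadFormMinus m (ZMod 2) 1 1)) | (((g : GL ((Fin m ⊕ Fin m) ⊕ Fin 2) (ZMod 2)) : Matrix ((Fin m ⊕ Fin m) ⊕ Fin 2) ((Fin m ⊕ Fin m) ⊕ Fin 2) (ZMod 2)) - 1).rank = 1})) ∨ (∃ n : ℕ, ∃ Q : QuadraticForm (ZMod 3) (Fin n → ZMod 3), (QuadraticMap.polarBilin Q).Nondegenerate ∧ ∃ c : ZMod 3, c ≠ 0 ∧ ∃ e : G ≃* ↥(Cfsg.reflectionSubgroup (⇑Q) c) ⧸ Subgroup.center ↥(Cfsg.reflectionSubgroup (⇑Q)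 c), e '' D = (QuotientGroup.mk : ↥(Cfsg.reflectionSubgroup (⇑Q) c) → _) '' {g : ↥(Cfsg.reflectionSubgroup (⇑Q) c) | (g : ↥(Cfsg.isometryGroup (ZMod 3) (⇑Q))) ∈ Cfsg.reflectionsOfNorm (⇑Q) c}) ∨ (Cfsg.IsOfTypeM22 G D ∨ Cfsg.IsOfTypeM23 G D ∨ Cfsg.IsOfTypeM24 G D) := by
  have hF := fs_of_group (CA.Fi.class_group hD)
  have hc := hD.2.2
  by_cases hw : ∃ a ∈ D, ∃ b ∈ D, a ≠ b ∧ Commute a b
  · have h := prim_of_simple hD hZ hsimple hw
    by_cases hs : Symp D
    · by_cases h4 : HasD4 D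
      · obtain ⟨V, _, _, _, Q, r, h1 | ⟨h1, h5⟩⟩ := symp_model h hs h4
        · exact Or.inr (Or.inl (fin_sp hF hc hZ h1))
        · exact Or.inr (Or.inr (Or.inr (Or.inl ((fin_o hF hc hZ h1 h5).imp (fun ⟨m, _, h⟩ => ⟨m, h⟩)
            fun ⟨m, _, h⟩ => ⟨m, h⟩))))
      · obtain ⟨n, φ, q⟩ := sym_model hF h.con hs h4
        obtain ⟨a, ha, b, hb, n1, -⟩ := hw
        exact Or.inl ⟨n, fin_sym hF hc hZ q ⟨a, ha, b, hb, n1⟩⟩
    by_cases ht : ∀ x ∈ D, Tau (P D x)
    · obtain ho | ⟨e, h1⟩ | ⟨e, h1⟩ | ⟨e, h1⟩ := cls_tau h ht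
      · obtain ⟨V, _, _, _, Q, r, h1⟩ := o3_model h ho hs ht
        exact Or.inr (Or.inr (Or.inr (Or.inr (Or.inl ⟨_, fin_o3 hF h.theta hc hZ h1⟩))))
      · exact Or.inr (Or.inr (Or.inr (Or.inr (Or.inr (Or.inl (CA.TC.type22_of_real h1 hc hZ))))))
      · exact Or.inr (Or.inr (Or.inr (Or.inr (Or.inr (Or.inr (Or.inl (CA.TC.type23_of_real h1 hc hZ)))))))
      · exact Or.inr (Or.inr (Or.inr (Or.inr (Or.inr (Or.inr (Or.inr (CA.TC.type24_of_real h1 hc hZ)))))))
    push Not at ht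
    obtain ⟨x, hx, ht⟩ := ht
    obtain ⟨n, hU⟩ := (polar h hx ht).resolve_left hs
    exact Or.inr (Or.inr (Or.inl ⟨n, CA.U6.F4, inferInstance, inferInstance, CA.U6.card_F4,
      fin_u h hc hZ hU (hU.four h)⟩))
  obtain ⟨hs, h2⟩ := symp_of_width_one hD hZ hsimple hw
  obtain ⟨n, φ, q⟩ := sym_model hF (con_of_class hD) hs fun ⟨_, a1, a2, _, k, n1, _⟩ => hw ⟨a1, k.m1, a2, k.m2, n1, k.c12⟩
  exact Or.inl ⟨n, fin_sym hF hc hZ q h2⟩

end Cfsg.Agent.S5368
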