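import Cfsg.Statements.S5369
import Cfsg.Agent.Th.Cls
import Cfsg.Agent.Fi.IType24

set_option autoImplicit false
open scoped MatrixGroups
open Cfsg

namespace Cfsg.Agent.S5369

open CA.Th CA.QP

/-- Let D be a conjugation-invariant generating set of 3-transpositions of the finite group G on which G acts primitively by conjugation, with trivial centre; let d be a member of D commuting with some other member of D (width at least 2), and let H be the subgroup generated by the members of D other than d commuting with d; suppose the largest normal 3-subgroup and the largest normal 2-subgroup of H are central in H. Then one of the following holds: G is isomorphic to a symmetric group of degree at least 7 with D going to the transpositions; G is isomorphic to the full isometry group of a hyperbolic or elliptic quadratic form in dimension at least 6 over the field with two elements with D going to the orthogonal transvections;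 G is isomorphic to the reflection group of a non-degenerate quadratic form in dimension at least 5 over the field with three elements for one non-zero norm, modulo its centre, with D going to the images of those reflections; or G with D is of type M(22), M(23) or M(24). -/
theorem result {G : Type*} [Group G] [Finite G] {D : Set G} (hD : Cfsg.IsThreeTranspositionGroup D) (hprim : Cfsg.IsPrimitiveUnderConj D) (hZ : Subgroup.center G = ⊥) (d : G) (hd : d ∈ D) (hw : ∃ b ∈ D, b ≠ d ∧ Commute d b) (h3 : Cfsg.pCore 3 ↥(Subgroup.closure {y : G | y ∈ D ∧ y ≠ d ∧ Commute d y}) ≤ Subgroup.center ↥(Subgroup.closure {y : G | y ∈ D ∧ y ≠ d ∧ Commute d y})) (h2 : Cfsg.pCore 2 ↥(Subgroup.closure {y : G | y ∈ D ∧ y ≠ d ∧ Commute d y}) ≤ Subgroup.center ↥(Subgroup.closure {y : G | y ∈ D ∧ y ≠ d ∧ Commute d y})) : (∃ n : ℕ, 7 ≤ n ∧ ∃ e : G ≃* Equiv.Perm (Fin n), e '' D = {σ : Equiv.Perm (Fin n) | σ.IsSwap}) ∨ ((∃ m : ℕ, 3 ≤ m ∧ ∃ e :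 G ≃* ↥(Cfsg.isometryGroup (ZMod 2) (Cfsg.quadFormPlus m (ZMod 2))), e '' D = {g : ↥(Cfsg.isometryGroup (ZMod 2) (Cfsg.quadFormPlus m (ZMod 2))) | (((g : GL (Fin m ⊕ Fin m) (ZMod 2)) : Matrix (Fin m ⊕ Fin m) (Fin m ⊕ Fin m) (ZMod 2)) - 1).rank = 1}) ∨ (∃ m : ℕ, 2 ≤ m ∧ ∃ e : G ≃* ↥(Cfsg.isometryGroup (ZMod 2) (Cfsg.quadFormMinus m (ZMod 2) 1 1)), e '' D = {g : ↥(Cfsg.isometryGroup (ZMod 2) (Cfsg.quadFormMinus m (ZMod 2) 1 1)) | (((g : GL ((Fin m ⊕ Fin m) ⊕ Fin 2) (ZMod 2)) : Matrix ((Fin m ⊕ Fin m) ⊕ Fin 2) ((Fin m ⊕ Fin m) ⊕ Fin 2) (ZMod 2)) - 1).rank = 1})) ∨ (∃ n : ℕ, 5 ≤ n ∧ ∃ Q : QuadraticForm (ZMod 3) (Fin n → ZMod 3), (QuadraticMap.polarBilin Q).Nondegenerate ∧ ∃ c : ZMod 3, c ≠ 0 ∧ ∃ e : G ≃* ↥(Cfsg.reflectionSubgroup (⇑Q) c) ⧸ Subgroup.center ↥(Cfsg.reflectionSubgroup (⇑Q) c), e '' D = (QuotientGroup.mk : ↥(Cfsg.reflectionSubgroup (⇑Q) c) → _) '' {g : ↥(Cfsg.reflectionSubgroup (⇑Q) c) | (g : ↥(Cfsg.isometryGroup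 (ZMod 3) (⇑Q))) ∈ Cfsg.reflectionsOfNorm (⇑Q) c}) ∨ (Cfsg.IsOfTypeM22 G D ∨ Cfsg.IsOfTypeM23 G D ∨ Cfsg.IsOfTypeM24 G D) := by
  have hF := fs_of_group hD
  have hc := hD.2.2
  obtain ⟨b, hb, n1, c1⟩ := hw
  have h := prim_of_prim (CA.Fi.class_of_group hD hprim.1 ⟨d, hd⟩) hprim ⟨d, hd, b, hb, n1.symm, c1⟩
  obtain ⟨ht, h'⟩ := h.loc_of_core hd h3 h2
  have ht' := h.tau_all hd ht
  obtain ⟨x, hx⟩ := h.perp_ne hd
  obtain ⟨y, hy, z, hz, c⟩ := h'.perp_two hx
  by_cases hs : Symp D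
  · by_cases h4 : HasD4 D
    · obtain ⟨V, _, _, _, Q, r, h1 | ⟨h1, h5⟩⟩ := symp_model h hs h4
      · exact absurd ht (h1.not_tau hd hx)
      · exact Or.inr (Or.inl (fin_o hF hc hZ h1 h5))
    · obtain ⟨n, φ, q⟩ := sym_model hF h.con hs h4
      exact Or.inl ⟨n, sym_seven hF q hd hx hy hz (ne_of_ncomm c), fin_sym hF hc hZ q ⟨b, hb, d, hd, n1⟩⟩
  obtain ho | ⟨e, h1⟩ | ⟨e, h1⟩ | ⟨e, h1⟩ := cls_tau h ht'
  · obtain ⟨V, _, _, _, Q, r, h1⟩ := o3_model h ho hs ht'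
    exact Or.inr (Or.inr (Or.inl ⟨_, h1.five h.theta hd hx hy hz c, fin_o3 hF h.theta hc hZ h1⟩))
  · exact Or.inr (Or.inr (Or.inr (Or.inl (CA.TC.type22_of_real h1 hc hZ))))
  · exact Or.inr (Or.inr (Or.inr (Or.inr (Or.inl (CA.TC.type23_of_real h1 hc hZ)))))
  · exact Or.inr (Or.inr (Or.inr (Or.inr (Or.inr (CA.TC.type24_of_real h1 hc hZ)))))

end Cfsg.Agent.S5369
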