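import Cfsg.Statements.S5522
import Cfsg.Agent.M24.Misc
import Cfsg.Prelude.Def_Spor_Mathieu

set_option autoImplicit false
open Cfsg

namespace Cfsg.Agent.S5522

open CA.M24
open scoped Pointwise
set_option maxRecDepth 100000
set_option maxHeartbeats 400000

theorem exists_fixed {g : Equiv.Perm Pt} {s : Finset Pt} (hs : g • s = s) {p : ℕ} (hp : p.Prime)
    (h : g ^ p = 1) (hc : ¬ p ∣ s.card) : ∃ x ∈ s, g x = x := by
  have : Fact p.Prime := ⟨hp⟩
  have hmem : ∀ x : Pt, g x ∈ s ↔ x ∈ s := fun x => by
    have h2 := Finset.smul_mem_smul_finset_iff g (b := x) (s := s)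
    rwa [hs] at h2
  obtain ⟨x, hx⟩ := Equiv.Perm.exists_fixed_point_of_prime (p := p) (n := 1) (α := s)
    (by rwa [Fintype.card_coe]) (σ := g.subtypePerm hmem) (by
      rw [pow_one, Equiv.Perm.subtypePerm_pow]
      exact Equiv.ext fun x => Subtype.ext (by simp [h]))
  exact ⟨x, x.2, congrArg Subtype.val hx⟩

theorem sq_eq : Spor.squareDodecad = unmask D0 := by decide +kernel


/-- The Mathieu group M₁₁, realised as the stabiliser of one point of the dodecad of squares inside the stabiliser M₁₂ of that dodecad in M₂₄, acts on the twelve coordinate positions outside the dodecad of squares (its 3-transitive action of degree 12); in this action every element of prime order fixes a point, i.e. the action is elusive. -/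
theorem result (g : Equiv.Perm Cfsg.GolayPt) (hg : g ∈ Cfsg.Spor.M11) (hord : (orderOf g).Prime) :
    ∃ x : Cfsg.GolayPt, x ∉ Cfsg.Spor.squareDodecad ∧ g x = x := by
  obtain ⟨⟨h1, h2⟩, h3⟩ := hg
  have h2' : g • unmask D0 = unmask D0 := by rw [← sq_eq]; exact h2
  have h3' : (some 0 : Pt) ∈ fixS g := mem_fixS.2 h3
  rw [sq_eq]
  by_contra hn
  push Not at hn
  have hsub : fixS g ⊆ unmask D0 := fun x hx => by
    by_contra h; exact hn x h (mem_fixS.1 hx)
  have hne : (fixS g).card ≠ 0 := Finset.card_ne_zero_of_mem h3'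
  have hoct : ∀ o ∈ octads, ¬ o ⊆ unmask D0 := by
    intro o ho h
    have a1 := card_of_mem_Cs (symmDiff_mem_Cs ho.1 D0_mem.1)
    have a2 := card_symmDiff_add o (unmask D0)
    rw [Finset.inter_eq_left.2 h, ho.2, D0_mem.2] at a2
    omega
  have hd : orderOf g ∣ 12 := by
    by_contra hd
    obtain ⟨x, hx, e⟩ := exists_fixed (g := g) (s := (unmask D0)ᶜ)
      (by rw [Finset.compl_eq_univ_sdiff, Finset.smul_finset_sdiff, Finset.smul_finset_univ, h2'])
      hord (pow_orderOf_eq_one g) (by rwa [Finset.card_compl, card_Pt, D0_mem.2])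
    exact hn x (Finset.mem_compl.1 hx) e
  have : orderOf g = 2 ∨ orderOf g = 3 := by
    have h4 := Nat.le_of_dvd (by norm_num) hd
    generalize orderOf g = n at *
    interval_cases n <;> first | omega | (exfalso; revert hord; norm_num)
  rcases this with h | h
  · exact hoct _ ((card_fix_two h1 h).resolve_right hne) hsub
  · have h6 := (card_fix_three h1 h).resolve_right hne
    obtain ⟨s, hs, hc⟩ := Finset.exists_subset_card_eq (s := fixS g) (n := 5) (by omega)
    obtain ⟨o, ho, hso⟩ := exists_octad hc
    have h7 := smul_octad_eq h1 ho hso hc.ge fun x hx => mem_fixS.1 (hs hx)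
    have h8 : (o \ unmask D0).card = 2 := by
      have a1 := Finset.card_sdiff_add_card_inter o (unmask D0)
      have a2 := even_card_inter ho.1 D0_mem.1
      have a3 := Finset.card_le_card (Finset.subset_inter hso (hs.trans hsub))
      have a4 : (o \ unmask D0).card ≠ 0 := by
        rw [ne_eq, Finset.card_eq_zero, Finset.sdiff_eq_empty_iff_subset]
        exact hoct o ho
      rw [Nat.even_iff] at a2
      rw [ho.2] at a1
      omega
    obtain ⟨x, hx, e⟩ := exists_fixed (g := g) (s := o \ unmask D0)
      (by rw [Finset.smul_finset_sdiff, h7, h2']) Nat.prime_three (h ▸ pow_orderOf_eq_one g)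
      (by rw [h8]; norm_num)
    exact hn x (Finset.mem_sdiff.1 hx).2 e

end Cfsg.Agent.S5522
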